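import Cfsg.Agent.RegularPGroups.Basic
import Cfsg.Agent.S4206

/-!
# A p-group of class less than p is regular

Polynomial sequences along a filtration are closed under products (Lazard, Leibman); applied to
`n ↦ b⁻ⁿ a⁻ⁿ (a b)ⁿ` this gives the Hall–Petrescu congruence needed for regularity.
-/

namespace CfsgLib.RegularPGroups

open scoped commutatorElement

variable {G : Type*} [Group G]

/-- The lower central filtration indexed so that positions `0` and `1` are the whole group. -/
def filt (G : Type*) [Group G] (s : ℕ) : Subgroup G :=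
  (⊤ : Subgroup G).lowerCentralSeries (s - 1)

theorem filt_normal (s : ℕ) : (filt G s).Normal := by
  unfold filt
  induction s - 1 with
  | zero => simpa using (inferInstance : (⊤ : Subgroup G).Normal)
  | succ i ih => rw [Subgroup.lowerCentralSeries_succ]; infer_instance

theorem filt_antitone {s t : ℕ} (h : s ≤ t) : filt G t ≤ filt G s :=
  Subgroup.lowerCentralSeries_antitone _ (by omega)

theorem filt_eq_top {s : ℕ} (h : s ≤ 1) : filt G s = ⊤ := by
  unfold filt
  rw [show s - 1 = 0 by omega, Subgroup.lowerCentralSeries_zero]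

theorem commutator_filt_le [Finite G] (s t : ℕ) : ⁅filt G s, filt G t⁆ ≤ filt G (s + t) := by
  by_cases hs : s = 0
  · subst hs
    rw [zero_add]
    have := filt_normal (G := G) t
    exact Subgroup.commutator_le_right _ _
  by_cases ht : t = 0
  · subst ht
    rw [add_zero]
    have := filt_normal (G := G) s
    exact Subgroup.commutator_le_left _ _
  have key := Cfsg.Agent.S4206.result (fun i => (⊤ : Subgroup G).lowerCentralSeries i)
    (fun i => by simpa [filt] using filt_normal (G := G) (i + 1))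
    (fun i => Subgroup.lowerCentralSeries_antitone _ (by omega)) ⊤
    (fun i => le_of_eq (Subgroup.lowerCentralSeries_succ _ i).symm) (s - 1) (t - 1)
  unfold filt
  rw [show s + t - 1 = s - 1 + (t - 1) + 1 by omega]
  exact key

/-- `f` is polynomial to depth `m` above level `s`: its `k`-th difference has values in the
`(s + k)`-th term for all `k ≤ m`. -/
def Poly : ℕ → ℕ → (ℕ → G) → Prop
  | 0, s, f => ∀ n, f n ∈ filt G s
  | m + 1, s, f => (∀ n, f n ∈ filt G s) ∧ Poly m (s + 1) (fun n => (f n)⁻¹ * f (n + 1))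

theorem Poly.values : ∀ {m s : ℕ} {f : ℕ → G}, Poly m s f → ∀ n, f n ∈ filt G s
  | 0, _, _, h => h
  | _ + 1, _, _, h => h.1

theorem Poly.mono_level : ∀ {m s t : ℕ} {f : ℕ → G}, t ≤ s → Poly m s f → Poly m t f
  | 0, _, _, _, hts, h => fun n => filt_antitone hts (h n)
  | m + 1, _, _, _, hts, h =>
    ⟨fun n => filt_antitone hts (h.1 n), Poly.mono_level (m := m) (by omega) h.2⟩

theorem Poly.mono_depth : ∀ {m s : ℕ} {f : ℕ → G}, Poly (m + 1) s f → Poly m s f
  | 0, _, _, h => h.1
  | m + 1, _, _, h => ⟨h.1, Poly.mono_depth (m := m) h.2⟩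

theorem Poly.one : ∀ {m s : ℕ}, Poly m s (fun _ => (1 : G))
  | 0, _ => fun _ => one_mem _
  | m + 1, s => ⟨fun _ => one_mem _, by
      simpa using (Poly.one : Poly m (s + 1) fun _ => (1 : G))⟩

theorem Poly.const {g : G} {m s : ℕ} (hg : g ∈ filt G s) : Poly m s (fun _ => g) := by
  cases m with
  | zero => exact fun _ => hg
  | succ m => exact ⟨fun _ => hg, by simpa using (Poly.one : Poly m (s + 1) fun _ => (1 : G))⟩

/-- Products, inverses and commutators of polynomial sequences are polynomial. -/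
theorem poly_closed [Finite G] (m : ℕ) :
    (∀ (s : ℕ) (f g : ℕ → G), Poly m s f → Poly m s g → Poly m s (fun n => f n * g n)) ∧
    (∀ (s : ℕ) (f : ℕ → G), Poly m s f → Poly m s (fun n => (f n)⁻¹)) ∧
    ∀ (s t : ℕ) (f g : ℕ → G), Poly m s f → Poly m t g →
      Poly m (s + t) (fun n => ⁅f n, g n⁆) := by
  induction m with
  | zero =>
    exact ⟨fun s f g hf hg n => mul_mem (hf n) (hg n), fun s f hf n => inv_mem (hf n),
      fun s t f g hf hg n =>
        commutator_filt_le s t (Subgroup.commutator_mem_commutator (hf n) (hg n))⟩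
  | succ m ih =>
    obtain ⟨hmul, hinv, hcomm⟩ := ih
    -- conjugation by a sequence of non-negative level
    have hconj : ∀ (s t : ℕ) (f g : ℕ → G), Poly m s f → Poly m t g →
        Poly m s (fun n => g n * f n * (g n)⁻¹) := by
      intro s t f g hf hg
      have e : (fun n => g n * f n * (g n)⁻¹) = fun n => ⁅g n, f n⁆ * f n := by
        funext n; rw [commutatorElement_def]; group
      rw [e]
      exact hmul s _ _ ((hcomm t s g f hg hf).mono_level (by omega)) hf
    refine ⟨?_, ?_, ?_⟩
    · intro s f g hf hg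
      refine ⟨fun n => mul_mem (hf.1 n) (hg.1 n), ?_⟩
      have e : (fun n => (f n * g n)⁻¹ * (f (n + 1) * g (n + 1))) = fun n =>
          ((g n)⁻¹ * ((f n)⁻¹ * f (n + 1)) * ((g n)⁻¹)⁻¹) * ((g n)⁻¹ * g (n + 1)) := by
        funext n; group
      rw [e]
      exact hmul _ _ _ (hconj (s + 1) s _ _ hf.2 (hinv s g hg.mono_depth)) hg.2
    · intro s f hf
      refine ⟨fun n => inv_mem (hf.1 n), ?_⟩
      have e : (fun n => ((f n)⁻¹)⁻¹ * (f (n + 1))⁻¹) = fun n =>
          f n * ((f n)⁻¹ * f (n + 1))⁻¹ * (f n)⁻¹ := by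
        funext n; group
      rw [e]
      exact hconj (s + 1) s _ _ (hinv _ _ hf.2) hf.mono_depth
    · intro s t f g hf hg
      refine ⟨fun n =>
        commutator_filt_le s t (Subgroup.commutator_mem_commutator (hf.1 n) (hg.1 n)), ?_⟩
      have e : (fun n => ⁅f n, g n⁆⁻¹ * ⁅f (n + 1), g (n + 1)⁆) = fun n =>
          (⁅f n, g n⁆⁻¹ * (f n * ⁅(f n)⁻¹ * f (n + 1), g n⁆ * (f n)⁻¹) * (⁅f n, g n⁆⁻¹)⁻¹) *
            (g n * (f n * ⁅(f n)⁻¹ * f (n + 1), (g n)⁻¹ * g (n + 1)⁆ * (f n)⁻¹) * (g n)⁻¹ *
              (g n * ⁅f n, (g n)⁻¹ * g (n + 1)⁆ * (g n)⁻¹)) := by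
        funext n; simp only [commutatorElement_def]; group
      rw [e]
      have hf0 := hf.mono_depth
      have hg0 := hg.mono_depth
      refine hmul _ _ _ ?_ (hmul _ _ _ ?_ ?_)
      · refine hconj _ (s + t) _ _ ?_ (hinv _ _ (hcomm s t f g hf0 hg0))
        refine hconj _ s _ _ ?_ hf0
        exact (hcomm (s + 1) t _ g hf.2 hg0).mono_level (by omega)
      · refine hconj _ t _ _ ?_ hg0
        refine hconj _ s _ _ ?_ hf0
        exact (hcomm (s + 1) (t + 1) _ _ hf.2 hg.2).mono_level (by omega)
      · refine hconj _ t _ _ ?_ hg0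
        exact (hcomm s (t + 1) f _ hf0 hg.2).mono_level (by omega)

theorem poly_pow (g : G) (m : ℕ) : Poly m 0 (fun n => g ^ n) := by
  have h0 : ∀ n, g ^ n ∈ filt G 0 := fun n => filt_eq_top (G := G) zero_le_one ▸ Subgroup.mem_top _
  cases m with
  | zero => exact h0
  | succ m =>
    refine ⟨h0, ?_⟩
    have e : (fun n => (g ^ n)⁻¹ * g ^ (n + 1)) = fun _ => g := by funext n; group
    rw [e]
    exact Poly.const (filt_eq_top (G := G) le_rfl ▸ Subgroup.mem_top g)

/-- The sequence `n ↦ c ^ (n choose k)` is polynomial when `c` lies deep enough. -/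
theorem poly_choose : ∀ (k m s : ℕ) (c : G), c ∈ filt G (s + k) →
    Poly m s (fun n => c ^ n.choose k) := by
  intro k
  induction k with
  | zero =>
    intro m s c hc
    simpa using (Poly.const (m := m) (s := s) hc)
  | succ k ih =>
    intro m s c hc
    have h0 : ∀ n : ℕ, c ^ n.choose (k + 1) ∈ filt G s :=
      fun n => pow_mem (filt_antitone (by omega) hc) _
    cases m with
    | zero => exact h0
    | succ m =>
      refine ⟨h0, ?_⟩
      have e : (fun n : ℕ => (c ^ n.choose (k + 1))⁻¹ * c ^ (n + 1).choose (k + 1)) =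
          fun n => c ^ n.choose k := by
        funext n
        rw [Nat.choose_succ_succ', pow_add, (Commute.pow_pow_self c _ _).eq, inv_mul_cancel_left]
      rw [e]
      exact ih m (s + 1) c (by rwa [show s + 1 + k = s + (k + 1) by omega])

/-- The first non-trivial value of a polynomial sequence is deep. -/
theorem Poly.value_mem : ∀ {k m s : ℕ} {f : ℕ → G}, Poly m s f → k ≤ m →
    (∀ j < k, f j = 1) → f k ∈ filt G (s + k) := by
  intro k
  induction k with
  | zero => intro m s f hf _ _; exact hf.values 0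
  | succ k ih =>
    intro m s f hf hkm h1
    obtain ⟨m, rfl⟩ : ∃ m', m = m' + 1 := ⟨m - 1, by omega⟩
    have h := ih hf.2 (by omega) (fun j hj => by
      rw [h1 j (by omega), h1 (j + 1) (by omega)]; group)
    rw [h1 k (by omega), inv_one, one_mul] at h
    rwa [show s + (k + 1) = s + 1 + k by omega]

variable {p : ℕ}

theorem poly_value_mem_pw [Finite G] [hp : Fact p.Prime] (hcl : filt G p = ⊥) :
    ∀ (d k : ℕ) (f : ℕ → G), k + d = p → 2 ≤ k → Poly p 0 f → (∀ j < k, f j = 1) →
      f p ∈ pw p (filt G 2) := by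
  intro d
  induction d with
  | zero =>
    intro k f hk _ hf h1
    have h := hf.value_mem (k := p) le_rfl (fun j hj => h1 j (by omega))
    rw [zero_add, hcl, Subgroup.mem_bot] at h
    rw [h]; exact one_mem _
  | succ d ih =>
    intro k f hk h2 hf h1
    set c := f k with hc
    have hck : c ∈ filt G k := by
      simpa using hf.value_mem (k := k) (by omega) h1
    have hcp : c⁻¹ ^ p.choose k ∈ pw p (filt G 2) := by
      obtain ⟨e, he⟩ := hp.out.dvd_choose_self (k := k) (by omega) (by omega)
      rw [he, mul_comm, pow_mul]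
      exact pow_mem_pw (pow_mem (inv_mem (filt_antitone h2 hck)) _)
    have hg := (poly_closed (G := G) p).1 0 f (fun n => c⁻¹ ^ n.choose k) hf
      (poly_choose k p 0 c⁻¹ (by simpa using inv_mem hck))
    have := ih (k + 1) _ (by omega) (by omega) hg (fun j hj => by
      rcases Nat.lt_or_ge j k with hjk | hjk
      · rw [h1 j hjk, Nat.choose_eq_zero_of_lt hjk, pow_zero, one_mul]
      · obtain rfl : j = k := by omega
        rw [Nat.choose_self, pow_one, ← hc, mul_inv_cancel])
    have e : f p = (f p * c⁻¹ ^ p.choose k) * (c⁻¹ ^ p.choose k)⁻¹ := by group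
    rw [e]
    exact mul_mem this (inv_mem hcp)

/-- Hall–Petrescu: in class less than `p`, `(a b)^p ≡ a^p b^p` modulo `p`-th powers of `G'`. -/
theorem exists_pow_mul_eq [Finite G] [hp : Fact p.Prime] (hcl : filt G p = ⊥) (a b : G) :
    ∃ c ∈ pw p ⁅(⊤ : Subgroup G), ⊤⁆, (a * b) ^ p = a ^ p * b ^ p * c := by
  set f : ℕ → G := fun n => (b ^ n)⁻¹ * (a ^ n)⁻¹ * (a * b) ^ n with hf
  obtain ⟨hmul, hinv, -⟩ := poly_closed (G := G) p
  have hpoly : Poly p 0 f :=
    hmul 0 _ _ (hmul 0 _ _ (hinv 0 _ (poly_pow b p)) (hinv 0 _ (poly_pow a p))) (poly_pow _ p)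
  have h2 := hp.out.two_le
  have hmem := poly_value_mem_pw hcl (p - 2) 2 f (by omega) le_rfl hpoly (fun j hj => by
    interval_cases j
    · simp [hf]
    · simp [hf])
  refine ⟨f p, ?_, ?_⟩
  · simpa [filt] using hmem
  · simp only [hf]; group

/-- A finite p-group of class less than `p` is regular. -/
theorem isRegularPGroup_of_class_lt [Finite G] [hp : Fact p.Prime] (hG : IsPGroup p G)
    (hcl : (⊤ : Subgroup G).lowerCentralSeries (p - 1) = ⊥) : Cfsg.IsRegularPGroup p G := by
  refine isRegularPGroup_of_regAt hG fun a b => ?_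
  have hcl' : filt (gen a b) p = ⊥ := by
    have key : ∀ n, ((⊤ : Subgroup (gen a b)).lowerCentralSeries n).map (gen a b).subtype ≤
        (⊤ : Subgroup G).lowerCentralSeries n := by
      intro n
      induction n with
      | zero => simp
      | succ n ih =>
        rw [Subgroup.lowerCentralSeries_succ, Subgroup.lowerCentralSeries_succ, Subgroup.map_commutator]
        exact Subgroup.commutator_mono ih le_top
    have h := key (p - 1)
    rw [hcl, le_bot_iff, Subgroup.map_eq_bot_iff_of_injective _ (Subgroup.subtype_injective _)] at h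
    exact h
  obtain ⟨c, hc, e⟩ := exists_pow_mul_eq hcl' (⟨a, left_mem_gen a b⟩ : gen a b) ⟨b, right_mem_gen a b⟩
  refine ⟨c, ?_, by simpa using congrArg Subtype.val e⟩
  have h1 : (pw p ⁅(⊤ : Subgroup (gen a b)), ⊤⁆).map (gen a b).subtype ≤ pw p (der a b) := by
    rw [pw, MonoidHom.map_closure, Subgroup.closure_le]
    rintro _ ⟨y, ⟨x, hx, rfl⟩, rfl⟩
    rw [map_pow]
    refine pow_mem_pw ?_
    rw [der, ← Subgroup.map_subtype_commutator]
    exact Subgroup.mem_map_of_mem _ hx
  exact h1 (Subgroup.mem_map_of_mem _ hc)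

end CfsgLib.RegularPGroups
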