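import Mathlib
import Cfsg.Prelude.Def_PLocal
import Cfsg.Agent.Solvable.Frattini

/-!
# Regular p-groups

`RegAt q G`: for all `a`, `b` there is `c` in the subgroup generated by the `q`-th powers of
`⟨a,b⟩'` with `(a b)^q = a^q b^q c`.  In a finite p-group this single condition gives: the
elements killed by `q` form a subgroup, the `q`-th powers form a subgroup, `a^q = b^q` iff
`(a b⁻¹)^q = 1`, and `a^q` commutes with `b` iff `[a,b]^q = 1`.  The condition at `q = p` already
implies regularity (the condition at all powers of `p`).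
-/

namespace CfsgLib.RegularPGroups

open scoped commutatorElement

variable {G : Type*} [Group G]

/-- The subgroup generated by two elements. -/
def gen (a b : G) : Subgroup G := Subgroup.closure ({a, b} : Set G)

/-- The derived subgroup of `⟨a, b⟩`. -/
def der (a b : G) : Subgroup G := ⁅gen a b, gen a b⁆

/-- The subgroup generated by the `q`-th powers of elements of `H`. -/
def pw (q : ℕ) (H : Subgroup G) : Subgroup G :=
  Subgroup.closure {y : G | ∃ x ∈ H, y = x ^ q}

/-- Regularity at the exponent `q`. -/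
def RegAt (q : ℕ) (G : Type*) [Group G] : Prop :=
  ∀ a b : G, ∃ c ∈ pw q (der a b), (a * b) ^ q = a ^ q * b ^ q * c

theorem isRegularPGroup_iff {p : ℕ} :
    Cfsg.IsRegularPGroup p G ↔ IsPGroup p G ∧ ∀ n, RegAt (p ^ n) G :=
  ⟨fun h => ⟨h.1, fun n a b => h.2 a b n⟩, fun h => ⟨h.1, fun a b n => h.2 n a b⟩⟩

theorem left_mem_gen (a b : G) : a ∈ gen a b := Subgroup.subset_closure (by simp)

theorem right_mem_gen (a b : G) : b ∈ gen a b := Subgroup.subset_closure (by simp)

theorem gen_le {a b : G} {K : Subgroup G} (ha : a ∈ K) (hb : b ∈ K) : gen a b ≤ K := by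
  rw [gen, Subgroup.closure_le]
  rintro x (rfl | hx)
  · exact ha
  · exact (Set.mem_singleton_iff.1 hx) ▸ hb

theorem commute_of_mem_zpowers {a x y : G} (hx : x ∈ Subgroup.zpowers a)
    (hy : y ∈ Subgroup.zpowers a) : Commute x y := by
  obtain ⟨i, rfl⟩ := Subgroup.mem_zpowers_iff.1 hx
  obtain ⟨j, rfl⟩ := Subgroup.mem_zpowers_iff.1 hy
  exact Commute.zpow_zpow_self a i j

theorem der_le_gen (a b : G) : der a b ≤ gen a b := Subgroup.commutator_le_self _

theorem commutatorElement_mem_der {a b x y : G} (hx : x ∈ gen a b) (hy : y ∈ gen a b) :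
    ⁅x, y⁆ ∈ der a b :=
  Subgroup.commutator_mem_commutator hx hy

theorem der_mono {a b x y : G} (hx : x ∈ gen a b) (hy : y ∈ gen a b) : der x y ≤ der a b :=
  Subgroup.commutator_mono (gen_le hx hy) (gen_le hx hy)

/-- `⟨a,b⟩` normalises its derived subgroup. -/
theorem conj_mem_der {a b g x : G} (hg : g ∈ gen a b) (hx : x ∈ der a b) :
    g * x * g⁻¹ ∈ der a b := by
  have h : g * x * g⁻¹ = ⁅g, x⁆ * x := by rw [commutatorElement_def]; group
  rw [h]
  exact mul_mem (commutatorElement_mem_der hg (der_le_gen a b hx)) hx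

/-- If `⟨a,b⟩` normalises `K` and `K` contains `[a,b]`, it contains the derived subgroup. -/
theorem der_le {a b : G} {K : Subgroup G} (hn : ∀ g ∈ gen a b, ∀ k ∈ K, g * k * g⁻¹ ∈ K)
    (h : ⁅a, b⁆ ∈ K) : der a b ≤ K := by
  have hswap : ∀ {x y : G}, ⁅x, y⁆ ∈ K → ⁅y, x⁆ ∈ K := fun {x y} hxy => by
    rw [← commutatorElement_inv]; exact inv_mem hxy
  have step : ∀ y, ∀ u ∈ ({a, b} : Set G), (∀ v ∈ ({a, b} : Set G), ⁅v, y⁆ ∈ K) →
      ⁅u, y⁆ ∈ K := fun y u hu hv => hv u hu
  have key : ∀ y : G, (∀ v ∈ ({a, b} : Set G), ⁅v, y⁆ ∈ K) → ∀ x ∈ gen a b, ⁅x, y⁆ ∈ K := by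
    intro y hy x hx
    refine (?_ : x ∈ gen a b ∧ ⁅x, y⁆ ∈ K).2
    induction hx using Subgroup.closure_induction with
    | mem u hu => exact ⟨Subgroup.subset_closure hu, step y u hu hy⟩
    | one => exact ⟨one_mem _, by simp⟩
    | mul u v _ _ hu hv =>
      refine ⟨mul_mem hu.1 hv.1, ?_⟩
      have e : ⁅u * v, y⁆ = (u * ⁅v, y⁆ * u⁻¹) * ⁅u, y⁆ := by
        simp only [commutatorElement_def]; group
      rw [e]
      exact mul_mem (hn u hu.1 _ hv.2) hu.2
    | inv u _ hu =>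
      refine ⟨inv_mem hu.1, ?_⟩
      have e : ⁅u⁻¹, y⁆ = u⁻¹ * ⁅u, y⁆⁻¹ * (u⁻¹)⁻¹ := by
        simp only [commutatorElement_def]; group
      rw [e]
      exact hn _ (inv_mem hu.1) _ (inv_mem hu.2)
  have hgen : ∀ u ∈ ({a, b} : Set G), ∀ v ∈ ({a, b} : Set G), ⁅u, v⁆ ∈ K := by
    intro u hu v hv
    rw [Set.mem_insert_iff, Set.mem_singleton_iff] at hu hv
    rcases hu with rfl | rfl <;> rcases hv with rfl | rfl
    · simp
    · exact h
    · exact hswap h
    · simp
  rw [der, Subgroup.commutator_le]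
  intro x hx y hy
  refine key y (fun v hv => hswap (key v (fun w hw => hgen w hw v hv) y hy)) x hx

variable {p : ℕ}

/-- In a finite p-group nothing proper supplements the derived subgroup. -/
theorem le_of_le_sup_commutator [Finite G] [Fact p.Prime] (hG : IsPGroup p G) {H S : Subgroup G}
    (hS : S ≤ H) (h : H ≤ S ⊔ ⁅H, H⁆) : H ≤ S := by
  have h1 : S.subgroupOf H ⊔ frattini H = ⊤ := by
    rw [eq_top_iff]
    refine le_trans ?_ (sup_le_sup_left
      (CfsgLib.Solvable.commutator_le_frattini (hG.to_subgroup H)) _)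
    rintro ⟨x, hx⟩ -
    have h2 : x ∈ (S.subgroupOf H ⊔ commutator H).map H.subtype := by
      rw [Subgroup.map_sup, Subgroup.map_subtype_commutator, Subgroup.map_subgroupOf_eq_of_le hS]
      exact h hx
    obtain ⟨y, hy, hyx⟩ := Subgroup.mem_map.1 h2
    have hy2 : y = ⟨x, hx⟩ := Subtype.ext hyx
    exact hy2 ▸ hy
  exact Subgroup.subgroupOf_eq_top.1 (frattini_nongenerating h1)

theorem not_commute_lt [Finite G] [Fact p.Prime] (hG : IsPGroup p G) {a b c : G}
    (hab : ¬ Commute a b) (hc : c ∈ gen a b) :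
    Subgroup.zpowers c ⊔ der a b < gen a b := by
  refine lt_of_le_of_ne (sup_le (Subgroup.zpowers_le.2 hc) (der_le_gen a b)) fun h => hab ?_
  have h' := le_of_le_sup_commutator hG (Subgroup.zpowers_le.2 hc) (le_of_eq h.symm)
  exact commute_of_mem_zpowers (h' (left_mem_gen a b)) (h' (right_mem_gen a b))

theorem card_gen_lt [Finite G] [Fact p.Prime] (hG : IsPGroup p G) {a b c x y : G}
    (hab : ¬ Commute a b) (hc : c ∈ gen a b) (hx : x ∈ Subgroup.zpowers c ⊔ der a b)
    (hy : y ∈ Subgroup.zpowers c ⊔ der a b) :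
    Nat.card (gen x y) < Nat.card (gen a b) := by
  have h := lt_of_le_of_lt (gen_le hx hy) (not_commute_lt hG hab hc)
  exact lt_of_le_of_ne (Subgroup.card_le_of_le h.le)
    fun he => h.ne (Subgroup.eq_of_le_of_card_ge h.le he.ge)

theorem der_eq_bot_of_commute {a b : G} (h : Commute a b) : der a b = ⊥ := by
  refine le_bot_iff.1 (der_le ?_ ?_)
  · intro g _ k hk
    rw [Subgroup.mem_bot] at hk ⊢
    rw [hk]; group
  · rw [Subgroup.mem_bot, commutatorElement_eq_one_iff_commute]; exact h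

theorem pow_mem_pw {q : ℕ} {H : Subgroup G} {x : G} (hx : x ∈ H) : x ^ q ∈ pw q H :=
  Subgroup.subset_closure ⟨x, hx, rfl⟩

theorem pw_mono {q : ℕ} {H K : Subgroup G} (h : H ≤ K) : pw q H ≤ pw q K :=
  Subgroup.closure_mono fun _ ⟨x, hx, hy⟩ => ⟨x, h hx, hy⟩

theorem pw_eq_bot {q : ℕ} {H : Subgroup G} (h : ∀ x ∈ H, x ^ q = 1) : pw q H = ⊥ := by
  rw [pw, Subgroup.closure_eq_bot_iff]
  rintro y ⟨x, hx, rfl⟩
  exact h x hx

theorem conj_mem_pw {q : ℕ} {a b g x : G} (hg : g ∈ gen a b) (hx : x ∈ pw q (der a b)) :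
    g * x * g⁻¹ ∈ pw q (der a b) := by
  induction hx using Subgroup.closure_induction with
  | mem y hy =>
    obtain ⟨z, hz, rfl⟩ := hy
    rw [← conj_pow]
    exact pow_mem_pw (conj_mem_der hg hz)
  | one => simp
  | mul u v _ _ hu hv =>
    have e : g * (u * v) * g⁻¹ = (g * u * g⁻¹) * (g * v * g⁻¹) := by group
    rw [e]; exact mul_mem hu hv
  | inv u _ hu =>
    have e : g * u⁻¹ * g⁻¹ = (g * u * g⁻¹)⁻¹ := by group
    rw [e]; exact inv_mem hu

section Finite

variable [Finite G] [Fact p.Prime] (hG : IsPGroup p G) {q : ℕ} (hq : RegAt q G)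
include hG hq

/-- The elements killed by `q` are closed under multiplication. -/
theorem mul_pow_eq_one (a b : G) (ha : a ^ q = 1) (hb : b ^ q = 1) : (a * b) ^ q = 1 := by
  induction hn : Nat.card (gen a b) using Nat.strong_induction_on generalizing a b with
  | _ n ih =>
  subst hn
  by_cases hab : Commute a b
  · rw [hab.mul_pow, ha, hb, one_mul]
  have hz := not_commute_lt hG hab (left_mem_gen a b)
  -- elements of `D` killed by `q` form a subgroup containing `[a,b]`
  let E : Subgroup G :=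
    { carrier := {x | x ∈ der a b ∧ x ^ q = 1}
      one_mem' := ⟨one_mem _, one_pow _⟩
      mul_mem' := fun {x y} hx hy => ⟨mul_mem hx.1 hy.1,
        ih _ (card_gen_lt hG hab (left_mem_gen a b) (Subgroup.mem_sup_right hx.1)
          (Subgroup.mem_sup_right hy.1)) x y hx.2 hy.2 rfl⟩
      inv_mem' := fun {x} hx => ⟨inv_mem hx.1, by rw [inv_pow, hx.2, inv_one]⟩ }
  have hkE : ⁅a, b⁆ ∈ E := by
    have hcomm := commutatorElement_mem_der (left_mem_gen a b) (right_mem_gen a b)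
    refine ⟨hcomm, ?_⟩
    have e : ⁅a, b⁆ = a * (b * a⁻¹ * b⁻¹) := by rw [commutatorElement_def]; group
    rw [e]
    have hmem : b * a⁻¹ * b⁻¹ ∈ Subgroup.zpowers a ⊔ der a b := by
      have e2 : b * a⁻¹ * b⁻¹ = a⁻¹ * ⁅a, b⁆ := by rw [commutatorElement_def]; group
      rw [e2]
      exact mul_mem (Subgroup.mem_sup_left (inv_mem (Subgroup.mem_zpowers a)))
        (Subgroup.mem_sup_right hcomm)
    refine ih _ (card_gen_lt hG hab (left_mem_gen a b) (Subgroup.mem_sup_left (Subgroup.mem_zpowers a))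
      hmem) a _ ha ?_ rfl
    rw [conj_pow, inv_pow, ha]; group
  have hDE : der a b ≤ E := der_le (fun g hg k hk => ⟨conj_mem_der hg hk.1,
    by rw [conj_pow, hk.2]; group⟩) hkE
  obtain ⟨c, hc, e⟩ := hq a b
  rw [pw_eq_bot (fun x hx => (hDE hx).2), Subgroup.mem_bot] at hc
  rw [e, ha, hb, hc, one_mul, one_mul]

/-- If `[a,b]` is killed by `q`, so is the derived subgroup of `⟨a,b⟩`. -/
theorem pw_der_eq_bot {a b : G} (h : ⁅a, b⁆ ^ q = 1) : pw q (der a b) = ⊥ := by
  refine pw_eq_bot fun x hx => ?_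
  let E : Subgroup G :=
    { carrier := {y | y ^ q = 1}
      one_mem' := one_pow _
      mul_mem' := fun {y z} hy hz => mul_pow_eq_one hG hq y z hy hz
      inv_mem' := fun {y} hy => by
        change y⁻¹ ^ q = 1
        rw [inv_pow, show y ^ q = 1 from hy, inv_one] }
  have hDE : der a b ≤ E := der_le (fun g _ k hk => by
    change (g * k * g⁻¹) ^ q = 1
    rw [conj_pow, show k ^ q = 1 from hk]; group) h
  exact hDE hx

/-- A product of two `q`-th powers is a `q`-th power. -/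
theorem exists_pow_eq (a b : G) : ∃ c ∈ gen a b, c ^ q = a ^ q * b ^ q := by
  induction hn : Nat.card (gen a b) using Nat.strong_induction_on generalizing a b with
  | _ n ih =>
  subst hn
  by_cases hab : Commute a b
  · exact ⟨a * b, mul_mem (left_mem_gen a b) (right_mem_gen a b), hab.mul_pow q⟩
  obtain ⟨c, hc, e⟩ := hq a b
  -- every element of the power subgroup of `D` is a power
  have hD : ∀ y ∈ pw q (der a b), ∃ d ∈ der a b, d ^ q = y := by
    intro y hy
    induction hy using Subgroup.closure_induction with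
    | mem z hz => obtain ⟨d, hd, rfl⟩ := hz; exact ⟨d, hd, rfl⟩
    | one => exact ⟨1, one_mem _, one_pow _⟩
    | mul u v _ _ hu hv =>
      obtain ⟨du, hdu, rfl⟩ := hu
      obtain ⟨dv, hdv, rfl⟩ := hv
      obtain ⟨d, hd, hd'⟩ := ih _ (card_gen_lt hG hab (left_mem_gen a b) (Subgroup.mem_sup_right hdu)
        (Subgroup.mem_sup_right hdv)) du dv rfl
      exact ⟨d, gen_le hdu hdv hd, hd'⟩
    | inv u _ hu =>
      obtain ⟨d, hd, rfl⟩ := hu
      exact ⟨d⁻¹, inv_mem hd, inv_pow d q⟩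
  obtain ⟨d, hd, hd'⟩ := hD c⁻¹ (inv_mem hc)
  have hmul : a * b ∈ gen a b := mul_mem (left_mem_gen a b) (right_mem_gen a b)
  obtain ⟨r, hr, hr'⟩ := ih _ (card_gen_lt hG hab hmul
    (Subgroup.mem_sup_left (Subgroup.mem_zpowers (a * b))) (Subgroup.mem_sup_right hd)) (a * b) d rfl
  refine ⟨r, gen_le hmul (der_le_gen a b hd) hr, ?_⟩
  rw [hr', hd', e]; group

/-- The elements of the power subgroup are powers. -/
theorem mem_pw_iff {H : Subgroup G} {y : G} : y ∈ pw q H ↔ ∃ x ∈ H, y = x ^ q := by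
  refine ⟨fun hy => ?_, fun ⟨x, hx, e⟩ => e ▸ pow_mem_pw hx⟩
  induction hy using Subgroup.closure_induction with
  | mem z hz => exact hz
  | one => exact ⟨1, one_mem _, (one_pow q).symm⟩
  | mul u v _ _ hu hv =>
    obtain ⟨x, hx, rfl⟩ := hu
    obtain ⟨x', hx', rfl⟩ := hv
    obtain ⟨c, hc, hc'⟩ := exists_pow_eq hG hq x x'
    exact ⟨c, gen_le hx hx' hc, hc'.symm⟩
  | inv u _ hu =>
    obtain ⟨x, hx, rfl⟩ := hu
    exact ⟨x⁻¹, inv_mem hx, (inv_pow x q).symm⟩

/-- `a^q = b^q` forces `(a b⁻¹)^q = 1`. -/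
theorem div_pow_eq_one_of_pow_eq (a b : G) (h : a ^ q = b ^ q) : (a * b⁻¹) ^ q = 1 := by
  induction hn : Nat.card (gen a b) using Nat.strong_induction_on generalizing a b with
  | _ n ih =>
  subst hn
  by_cases hab : Commute a b
  · rw [hab.inv_right.mul_pow, inv_pow, h, mul_inv_cancel]
  have hk : ⁅a, b⁆ ^ q = 1 := by
    have e : ⁅a, b⁆ = a * (b * a * b⁻¹)⁻¹ := by rw [commutatorElement_def]; group
    rw [e]
    have hmem : b * a * b⁻¹ ∈ Subgroup.zpowers a ⊔ der a b := by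
      have e2 : b * a * b⁻¹ = ⁅b, a⁆ * a := by rw [commutatorElement_def]; group
      rw [e2]
      exact mul_mem (Subgroup.mem_sup_right (commutatorElement_mem_der (right_mem_gen a b)
        (left_mem_gen a b))) (Subgroup.mem_sup_left (Subgroup.mem_zpowers a))
    refine ih _ (card_gen_lt hG hab (left_mem_gen a b) (Subgroup.mem_sup_left (Subgroup.mem_zpowers a))
      hmem) a _ ?_ rfl
    rw [conj_pow, h]
    rw [((Commute.refl b).pow_right q).eq]
    group
  obtain ⟨c, hc, e⟩ := hq (a * b⁻¹) b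
  have hle : der (a * b⁻¹) b ≤ der a b :=
    der_mono (mul_mem (left_mem_gen a b) (inv_mem (right_mem_gen a b))) (right_mem_gen a b)
  have hc1 : c = 1 := Subgroup.mem_bot.1 ((pw_der_eq_bot hG hq hk) ▸ pw_mono hle hc)
  rw [inv_mul_cancel_right, hc1, mul_one, h, eq_comm, mul_eq_right] at e
  exact e

/-- `(a b⁻¹)^q = 1` forces `a^q = b^q`. -/
theorem pow_eq_of_div_pow_eq_one (a b : G) (h : (a * b⁻¹) ^ q = 1) : a ^ q = b ^ q := by
  obtain ⟨c, hc, e⟩ := hq (a * b⁻¹) b
  set u := a * b⁻¹ with hu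
  have hk : ⁅u, b⁆ ^ q = 1 := by
    have e2 : ⁅u, b⁆ = u * (b * u⁻¹ * b⁻¹) := by rw [commutatorElement_def]; group
    rw [e2]
    refine mul_pow_eq_one hG hq _ _ h ?_
    rw [conj_pow, inv_pow, h]; group
  have hc1 : c = 1 := Subgroup.mem_bot.1 ((pw_der_eq_bot hG hq hk) ▸ hc)
  rw [h, hc1, one_mul, mul_one, hu, inv_mul_cancel_right] at e
  exact e

theorem pow_eq_iff (a b : G) : a ^ q = b ^ q ↔ (a * b⁻¹) ^ q = 1 :=
  ⟨div_pow_eq_one_of_pow_eq hG hq a b, pow_eq_of_div_pow_eq_one hG hq a b⟩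

/-- `a^q` commutes with `b` iff `[a,b]^q = 1`. -/
theorem commute_pow_iff (a b : G) : Commute (a ^ q) b ↔ ⁅a, b⁆ ^ q = 1 := by
  have e : ⁅a, b⁆ = a * (b * a * b⁻¹)⁻¹ := by rw [commutatorElement_def]; group
  rw [e, ← pow_eq_iff hG hq, conj_pow]
  constructor
  · intro h
    calc a ^ q = (a ^ q * b) * b⁻¹ := by group
      _ = _ := by rw [h.eq]
  · intro h
    change a ^ q * b = b * a ^ q
    conv_lhs => rw [h]
    group

omit [Finite G] hG in
/-- `[y, u^q]` lies in the power subgroup of the derived subgroup. -/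
theorem commutator_pow_mem {a b u y : G} (hu : u ∈ gen a b) (hy : y ∈ gen a b) :
    ⁅y, u ^ q⁆ ∈ pw q (der a b) := by
  set e := ⁅y, u⁆ with he
  have hed : e ∈ der a b := commutatorElement_mem_der hy hu
  obtain ⟨c, hc, hc'⟩ := hq e u
  have h1 : ⁅y, u ^ q⁆ = (e * u) ^ q * (u ^ q)⁻¹ := by
    have : y * u * y⁻¹ = e * u := by rw [he, commutatorElement_def]; group
    rw [← this, conj_pow, commutatorElement_def]
  rw [h1, hc']
  have h2 : e ^ q * u ^ q * c * (u ^ q)⁻¹ = e ^ q * (u ^ q * c * (u ^ q)⁻¹) := by group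
  rw [h2]
  exact mul_mem (pow_mem_pw hed)
    (conj_mem_pw (pow_mem hu q) (pw_mono (der_mono (der_le_gen a b hed) hu) hc))

end Finite

/-- Regularity at `p` gives regularity at all powers of `p`. -/
theorem regAt_pow [Finite G] [Fact p.Prime] (hG : IsPGroup p G) (h : RegAt p G) :
    ∀ n, RegAt (p ^ n) G := by
  intro n
  induction n with
  | zero => intro a b; exact ⟨1, one_mem _, by simp⟩
  | succ n ih =>
    intro a b
    obtain ⟨c, hc, e⟩ := h a b
    obtain ⟨d, hd, rfl⟩ := (mem_pw_iff hG h).1 hc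
    set Q := p ^ n with hQ
    set R := pw p (der a b) with hR
    have hcomm : ∀ x ∈ gen a b, ∀ u ∈ gen a b, der x (u ^ p) ≤ R := by
      intro x hx u hu
      refine der_le (fun g hg k hk => conj_mem_pw ?_ hk) (commutator_pow_mem (q := p) h hu hx)
      exact gen_le hx (pow_mem hu p) hg
    have hRQ : pw Q R ≤ pw (p ^ (n + 1)) (der a b) := by
      rw [pw, Subgroup.closure_le]
      rintro y ⟨r, hr, rfl⟩
      obtain ⟨z, hz, rfl⟩ := (mem_pw_iff hG h).1 hr
      rw [← pow_mul, ← pow_succ']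
      exact pow_mem_pw hz
    have ha := left_mem_gen a b
    have hb := right_mem_gen a b
    have hdg : d ∈ gen a b := der_le_gen a b hd
    obtain ⟨e1, he1, h1⟩ := ih (a ^ p * b ^ p) (d ^ p)
    obtain ⟨e2, he2, h2⟩ := ih (a ^ p) (b ^ p)
    have he1' : e1 ∈ pw (p ^ (n + 1)) (der a b) :=
      hRQ (pw_mono (hcomm _ (mul_mem (pow_mem ha p) (pow_mem hb p)) d hdg) he1)
    have he2' : e2 ∈ pw (p ^ (n + 1)) (der a b) := hRQ (pw_mono (hcomm _ (pow_mem ha p) b hb) he2)
    refine ⟨e2 * (d ^ p) ^ Q * e1, mul_mem (mul_mem he2' ?_) he1', ?_⟩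
    · rw [← pow_mul, ← pow_succ']; exact pow_mem_pw hd
    · calc (a * b) ^ p ^ (n + 1) = ((a * b) ^ p) ^ Q := by rw [hQ, ← pow_mul, ← pow_succ']
        _ = (a ^ p) ^ Q * (b ^ p) ^ Q * e2 * (d ^ p) ^ Q * e1 := by rw [e, h1, h2]
        _ = a ^ p ^ (n + 1) * b ^ p ^ (n + 1) * (e2 * (d ^ p) ^ Q * e1) := by
            rw [hQ, ← pow_mul a, ← pow_mul b, ← pow_succ']; simp only [mul_assoc]

/-- A finite p-group regular at `p` is regular. -/
theorem isRegularPGroup_of_regAt [Finite G] [Fact p.Prime] (hG : IsPGroup p G) (h : RegAt p G) :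
    Cfsg.IsRegularPGroup p G :=
  isRegularPGroup_iff.2 ⟨hG, regAt_pow hG h⟩

end CfsgLib.RegularPGroups
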